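import Mathlib

/-! Quasi-homeomorphisms and equivalences of sheaf categories. -/

set_option autoImplicit false
set_option linter.style.haveILetI false
set_option linter.unusedSectionVars false
set_option backward.isDefEq.respectTransparency false
universe u

open CategoryTheory CategoryTheory.Limits TopologicalSpace Opposite TopCat

namespace Groth.Agent.H06QHomeo

variable {X₀ X : TopCat.{u}} (f : X₀ ⟶ X)

/-- Two elements. -/
abbrev A₂ : Type u := ULift.{u} (ZMod 2)

/-- The limit of a function with finitely many values along an ultrafilter. -/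
noncomputable def ulim {α A : Type u} [Finite A] (U : Ultrafilter α) (g : α → A) : A :=
  (Ultrafilter.eq_pure_of_finite (U.map g)).choose

theorem ulim_spec {α A : Type u} [Finite A] (U : Ultrafilter α) (g : α → A) :
    ∀ᶠ a in (U : Filter α), g a = ulim U g := by
  have h : U.map g = pure (ulim U g) := (Ultrafilter.eq_pure_of_finite (U.map g)).choose_spec
  have h2 : ({ulim U g} : Set A) ∈ U.map g := by rw [h]; simp
  exact Ultrafilter.mem_map.1 h2

theorem ulim_congr {α A : Type u} [Finite A] (U : Ultrafilter α) {g g' : α → A}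
    (h : ∀ᶠ a in (U : Filter α), g a = g' a) : ulim U g = ulim U g' := by
  obtain ⟨a, h1, h2, h3⟩ := ((ulim_spec U g).and ((ulim_spec U g').and h)).exists
  rw [← h1, ← h2, h3]

theorem ulim_add {α A : Type u} [Finite A] [Add A] (U : Ultrafilter α) (g g' : α → A) :
    ulim U (fun a => g a + g' a) = ulim U g + ulim U g' := by
  obtain ⟨a, h1, h2, h3⟩ := ((ulim_spec U g).and ((ulim_spec U g').and (ulim_spec U fun a => g a + g' a))).exists
  rw [← h1, ← h2]; exact h3.symm

theorem ulim_const {α A : Type u} [Finite A] (U : Ultrafilter α) (v : A) : ulim U (fun _ => v) = v := by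
  obtain ⟨a, ha⟩ := (ulim_spec U (fun _ => v)).exists
  exact ha.symm

variable (C : Set X₀)

/-- Values of sections supported on `C`. -/
abbrev Fn (V : Opens X₀) : Type u := ∀ x : V, PLift (x.1 ∈ C) → A₂.{u}

/-- Extension by zero. -/
noncomputable def ext0 {V : Opens X₀} (s : Fn C V) (c : X₀) : A₂.{u} :=
  open Classical in if h : c ∈ V ∧ c ∈ C then s ⟨c, h.1⟩ ⟨h.2⟩ else 0

theorem ext0_add {V : Opens X₀} (s t : Fn C V) : ext0 C (s + t) = fun c => ext0 C s c + ext0 C t c := by
  funext c
  unfold ext0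
  split_ifs <;> simp

theorem ext0_res {V V' : Opens X₀} (h : V' ≤ V) (s : Fn C V) {c : X₀} (hc : c ∈ V') :
    ext0 C (V := V') (fun x => s ⟨x.1, h x.2⟩) c = ext0 C s c := by
  unfold ext0
  by_cases hC : c ∈ C
  · rw [dif_pos ⟨hc, hC⟩, dif_pos ⟨h hc, hC⟩]
  · rw [dif_neg (fun h => hC h.2), dif_neg (fun h => hC h.2)]

/-- Functions on `C`, as a sheaf of sets. -/
noncomputable def fnType : TopCat.Sheaf (Type u) X₀ :=
  TopCat.sheafToTypes X₀ fun x => PLift (x ∈ C) → A₂.{u}

/-- Functions on `C`, as a presheaf of groups. -/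
noncomputable def fnAbPre : TopCat.Presheaf AddCommGrpCat.{u} X₀ where
  obj V := AddCommGrpCat.of (Fn C V.unop)
  map {V W} i := AddCommGrpCat.ofHom
    { toFun := fun s x => s (i.unop x)
      map_zero' := rfl
      map_add' := fun _ _ => rfl }

theorem fnAbPre_isSheaf : (fnAbPre C).IsSheaf := by
  rw [TopCat.Presheaf.isSheaf_iff_isSheaf_comp (forget AddCommGrpCat.{u})]
  exact TopCat.Presheaf.toTypes_isSheaf X₀ fun x => PLift (x ∈ C) → A₂.{u}

/-- Functions on `C`, as a sheaf of groups. -/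
noncomputable def fnAb : TopCat.Sheaf AddCommGrpCat.{u} X₀ := ⟨fnAbPre C, fnAbPre_isSheaf C⟩

theorem exists_ultrafilter (x : X₀) (h : ∀ W : Opens X, f x ∈ W → ∃ c ∈ C, f c ∈ W) :
    ∃ U : Ultrafilter X₀, C ∈ U ∧ ∀ W : Opens X, f x ∈ W → f ⁻¹' (W : Set X) ∈ U := by
  have hne : (Filter.comap f (nhds (f x)) ⊓ Filter.principal C).NeBot := by
    rw [Filter.inf_principal_neBot_iff]
    intro S hS
    obtain ⟨T, hT, hTS⟩ := Filter.mem_comap.1 hS
    obtain ⟨W, hWT, hWo, hxW⟩ := mem_nhds_iff.1 hT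
    obtain ⟨c, hc, hcW⟩ := h ⟨W, hWo⟩ hxW
    exact ⟨c, hTS (hWT hcW), hc⟩
  obtain ⟨U, hU⟩ := Ultrafilter.exists_le (Filter.comap f (nhds (f x)) ⊓ Filter.principal C)
  exact ⟨U, hU (Filter.mem_inf_of_right (Filter.mem_principal_self C)),
    fun W hW => hU (Filter.mem_inf_of_left (Filter.preimage_mem_comap (W.isOpen.mem_nhds hW)))⟩

/-- A natural transformation between direct images which is not a direct image. -/
noncomputable def limVal (x : X₀) (U : Ultrafilter X₀) {V : Opens X₀} (s : Fn C V) : Fn {x} V :=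
  fun _ _ => ulim U (ext0 C s)

theorem limVal_res {x : X₀} (U : Ultrafilter X₀) (hU : ∀ W : Opens X, f x ∈ W → f ⁻¹' (W : Set X) ∈ U)
    {W W' : Opens X} (h : W' ≤ W) (s : Fn C ((Opens.map f).obj W)) :
    limVal C x U (V := (Opens.map f).obj W') (fun y => s ⟨y.1, h y.2⟩) =
      fun y hy => limVal C x U s ⟨y.1, h y.2⟩ hy := by
  funext y hy
  refine ulim_congr U ?_
  have hx : f x ∈ W' := by
    have h2 : f y.1 ∈ W' := y.2
    rwa [Set.mem_singleton_iff.1 hy.down] at h2
  filter_upwards [hU W' hx] with c hc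
  exact ext0_res C (V := (Opens.map f).obj W) (V' := (Opens.map f).obj W') (fun z hz => h hz) s hc

theorem no_lift {x : X₀} (U : Ultrafilter X₀) (hC : C ∈ U)
    (hU : ∀ W : Opens X, f x ∈ W → f ⁻¹' (W : Set X) ∈ U) {V : Opens X₀} (hxV : x ∈ V) (hVC : ∀ c ∈ V, c ∉ C)
    (ψ : Fn C ⊤ → Fn {x} ⊤) (ψV : Fn C V → Fn {x} V)
    (hnat : ∀ s, ψV (fun y => s ⟨y.1, trivial⟩) = fun y hy => ψ s ⟨y.1, trivial⟩ hy)
    (hψ : ∀ s, ψ s = limVal C x U s) : False := by
  have hsub : Subsingleton (Fn C V) := ⟨fun a b => funext fun y => funext fun hy => absurd hy.down (hVC y.1 y.2)⟩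
  let s0 : Fn C ⊤ := fun _ _ => 0
  let s1 : Fn C ⊤ := fun _ _ => 1
  have h : ψ s0 ⟨x, trivial⟩ ⟨rfl⟩ = ψ s1 ⟨x, trivial⟩ ⟨rfl⟩ := by
    have h0 := congrFun (congrFun (hnat s0) ⟨x, hxV⟩) ⟨rfl⟩
    have h1 := congrFun (congrFun (hnat s1) ⟨x, hxV⟩) ⟨rfl⟩
    rw [← h0, ← h1]
    exact congrArg (fun t => ψV t ⟨x, hxV⟩ ⟨rfl⟩) (Subsingleton.elim _ _)
  rw [hψ, hψ] at h
  have e : ∀ v : A₂.{u}, ulim U (ext0 C (V := ⊤) fun _ _ => v) = v := fun v => by
    refine (ulim_congr U ?_).trans (ulim_const U v)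
    filter_upwards [hC] with c hc
    exact dif_pos ⟨trivial, hc⟩
  have h01 : (0 : A₂.{u}) = 1 := (e 0).symm.trans (h.trans (e 1))
  exact absurd (congrArg ULift.down h01) (by decide)

/-- Bijectivity on open sets, from the two properties of the functors. -/
theorem bijective_of (hinj : ∀ (y : X) (W W' : Opens X), W ≤ W' → y ∈ W' →
      (Opens.map f).obj W = (Opens.map f).obj W' → y ∈ W)
    (hsurj : ∀ (x : X₀) (V : Opens X₀), x ∈ V →
      ∃ W : Opens X, f x ∈ W ∧ (Opens.map f).obj W ≤ V) :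
    Function.Bijective (fun U : Opens X => (Opens.map f).obj U) := by
  refine ⟨fun W W' h => ?_, fun V => ?_⟩
  · have key : ∀ W W' : Opens X, (Opens.map f).obj W = (Opens.map f).obj W' → W' ≤ W := fun W W' h y hy => by
      refine (hinj y (W ⊓ W') W' inf_le_right hy ?_).1
      refine le_antisymm (fun z hz => hz.2) fun z hz => ⟨?_, hz⟩
      exact (h.ge hz : z ∈ (Opens.map f).obj W)
    exact le_antisymm (key W' W h.symm) (key W W' h)
  · refine ⟨sSup {W : Opens X | (Opens.map f).obj W ≤ V}, le_antisymm (fun z hz => ?_) fun z hz => ?_⟩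
    · obtain ⟨W, hW, hzW⟩ := Opens.mem_sSup.1 (hz : f z ∈ sSup {W : Opens X | (Opens.map f).obj W ≤ V})
      exact hW hzW
    · obtain ⟨W, hxW, hW⟩ := hsurj z V hz
      exact Opens.mem_sSup.2 ⟨W, hW, hxW⟩

theorem bijective_of_type [(TopCat.Sheaf.pushforward (Type u) f).IsEquivalence] :
    Function.Bijective (fun U : Opens X => (Opens.map f).obj U) := by
  refine bijective_of f (fun y W W' hle hy h => ?_) (fun x V hxV => ?_)
  · by_contra hyW
    let G : TopCat.Sheaf (Type u) X := TopCat.sheafToTypes X fun z => PLift (z = y) → A₂.{u}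
    let F := (TopCat.Sheaf.pushforward (Type u) f).objPreimage G
    let e := (TopCat.Sheaf.pushforward (Type u) f).objObjPreimageIso G
    have hiso : IsIso (((TopCat.Sheaf.pushforward (Type u) f).obj F).obj.map (homOfLE hle).op) := by
      haveI : IsIso ((Opens.map f).map (homOfLE hle)) := ⟨eqToHom h.symm, Subsingleton.elim _ _, Subsingleton.elim _ _⟩
      change IsIso (F.obj.map ((Opens.map f).map (homOfLE hle)).op)
      infer_instance
    haveI : IsIso (G.obj.map (homOfLE hle).op) :=
      (NatIso.isIso_map_iff ((TopCat.Sheaf.forget _ X).mapIso e) (homOfLE hle).op).1 hiso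
    have hinj : Function.Injective (ConcreteCategory.hom (G.obj.map (homOfLE hle).op)) :=
      (ConcreteCategory.bijective_of_isIso (G.obj.map (homOfLE hle).op)).1
    let a0 : ∀ z : W', PLift (z.1 = y) → A₂.{u} := fun _ _ => 0
    let a1 : ∀ z : W', PLift (z.1 = y) → A₂.{u} := fun _ _ => 1
    have : a0 = a1 := hinj (funext fun z => funext fun hz => absurd (hz.down ▸ z.2) hyW)
    exact absurd (congrArg ULift.down (congrFun (congrFun this ⟨y, hy⟩) ⟨rfl⟩)) (by decide)
  · by_contra hcon
    push Not at hcon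
    obtain ⟨U, hC, hU⟩ := exists_ultrafilter f (V : Set X₀)ᶜ x fun W hW => by
      obtain ⟨c, hc, hc'⟩ := SetLike.not_le_iff_exists.1 (hcon W hW)
      exact ⟨c, hc', hc⟩
    let φ : (TopCat.Sheaf.pushforward (Type u) f).obj (fnType (V : Set X₀)ᶜ) ⟶
        (TopCat.Sheaf.pushforward (Type u) f).obj (fnType {x}) :=
      ⟨{ app := fun W => ↾fun s => limVal (V : Set X₀)ᶜ x U s
         naturality := fun W W' i => by
           refine ConcreteCategory.hom_ext _ _ fun s => ?_
           exact limVal_res f (V : Set X₀)ᶜ U hU i.unop.le s }⟩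
    obtain ⟨ψ, hψ⟩ := (TopCat.Sheaf.pushforward (Type u) f).map_surjective φ
    refine no_lift f (V : Set X₀)ᶜ U hC hU hxV (fun c hc h => h hc)
      (fun s => ψ.hom.app (op ⊤) s) (fun s => ψ.hom.app (op V) s) (fun s => ?_) (fun s => ?_)
    · exact congr($(ψ.hom.naturality (homOfLE le_top : V ⟶ ⊤).op) s)
    · exact congr($(NatTrans.congr_app (congrArg (fun t => t.hom) hψ) (op (⊤ : Opens X))) s)

theorem bijective_of_ab [(TopCat.Sheaf.pushforward AddCommGrpCat.{u} f).IsEquivalence] :
    Function.Bijective (fun U : Opens X => (Opens.map f).obj U) := by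
  refine bijective_of f (fun y W W' hle hy h => ?_) (fun x V hxV => ?_)
  · by_contra hyW
    let G : TopCat.Sheaf AddCommGrpCat.{u} X := fnAb (X₀ := X) {y}
    let F := (TopCat.Sheaf.pushforward AddCommGrpCat.{u} f).objPreimage G
    let e := (TopCat.Sheaf.pushforward AddCommGrpCat.{u} f).objObjPreimageIso G
    have hiso : IsIso (((TopCat.Sheaf.pushforward AddCommGrpCat.{u} f).obj F).obj.map (homOfLE hle).op) := by
      haveI : IsIso ((Opens.map f).map (homOfLE hle)) := ⟨eqToHom h.symm, Subsingleton.elim _ _, Subsingleton.elim _ _⟩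
      change IsIso (F.obj.map ((Opens.map f).map (homOfLE hle)).op)
      infer_instance
    haveI : IsIso (G.obj.map (homOfLE hle).op) :=
      (NatIso.isIso_map_iff ((TopCat.Sheaf.forget _ X).mapIso e) (homOfLE hle).op).1 hiso
    have hinj : Function.Injective (ConcreteCategory.hom (G.obj.map (homOfLE hle).op)) :=
      (ConcreteCategory.bijective_of_isIso (G.obj.map (homOfLE hle).op)).1
    let a0 : Fn (X₀ := X) {y} W' := fun _ _ => 0
    let a1 : Fn (X₀ := X) {y} W' := fun _ _ => 1
    have : a0 = a1 := hinj (funext fun z => funext fun hz =>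
      absurd ((Set.mem_singleton_iff.1 hz.down) ▸ z.2) hyW)
    exact absurd (congrArg ULift.down (congrFun (congrFun this ⟨y, hy⟩) ⟨rfl⟩)) (by decide)
  · by_contra hcon
    push Not at hcon
    obtain ⟨U, hC, hU⟩ := exists_ultrafilter f (V : Set X₀)ᶜ x fun W hW => by
      obtain ⟨c, hc, hc'⟩ := SetLike.not_le_iff_exists.1 (hcon W hW)
      exact ⟨c, hc', hc⟩
    let φ : (TopCat.Sheaf.pushforward AddCommGrpCat.{u} f).obj (fnAb (V : Set X₀)ᶜ) ⟶
        (TopCat.Sheaf.pushforward AddCommGrpCat.{u} f).obj (fnAb {x}) :=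
      ⟨{ app := fun W => AddCommGrpCat.ofHom (AddMonoidHom.mk'
            (fun s => limVal (V : Set X₀)ᶜ x U s) fun s t => by
              funext y hy
              show ulim U (ext0 (V : Set X₀)ᶜ (s + t)) =
                ulim U (ext0 (V : Set X₀)ᶜ s) + ulim U (ext0 (V : Set X₀)ᶜ t)
              rw [ext0_add, ulim_add])
         naturality := fun W W' i => by
           refine ConcreteCategory.hom_ext _ _ fun s => ?_
           exact limVal_res f (V : Set X₀)ᶜ U hU i.unop.le s }⟩
    obtain ⟨ψ, hψ⟩ := (TopCat.Sheaf.pushforward AddCommGrpCat.{u} f).map_surjective φ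
    refine no_lift f (V : Set X₀)ᶜ U hC hU hxV (fun c hc h => h hc)
      (fun s => ψ.hom.app (op ⊤) s) (fun s => ψ.hom.app (op V) s) (fun s => ?_) (fun s => ?_)
    · exact congr($(ψ.hom.naturality (homOfLE le_top : V ⟶ ⊤).op) s)
    · exact congr($(NatTrans.congr_app (congrArg (fun t => t.hom) hψ) (op (⊤ : Opens X))) s)

variable (h : Function.Bijective (fun U : Opens X => (Opens.map f).obj U))

include h in
theorem le_of_map_le {W W' : Opens X} (hle : (Opens.map f).obj W ≤ (Opens.map f).obj W') : W ≤ W' := by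
  have : W ⊓ W' = W := h.1 (le_antisymm (fun z hz => hz.1) fun z hz => ⟨hz, hle hz⟩)
  exact this ▸ inf_le_right

include h in
theorem isDenseSubsite :
    (Opens.map f).IsDenseSubsite (Opens.grothendieckTopology X) (Opens.grothendieckTopology X₀) := by
  haveI : (Opens.map f).Full := ⟨fun i => ⟨homOfLE (le_of_map_le f h i.le), Subsingleton.elim _ _⟩⟩
  haveI : (Opens.map f).EssSurj := ⟨fun V => (h.2 V).imp fun W hW => ⟨eqToIso hW⟩⟩
  haveI : (Opens.map f).Faithful := ⟨fun _ => Subsingleton.elim _ _⟩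
  haveI : (Opens.map f).IsEquivalence := {}
  refine { functorPushforward_mem_iff := @fun W S => ⟨fun hS => ?_, fun hS => ?_⟩ }
  · let W₁ : Opens X := sSup {V | ∃ i : V ⟶ W, S i}
    have hle : W ≤ W₁ := le_of_map_le f h fun z hz => by
      obtain ⟨V', g, ⟨V, i, j, hi, -⟩, hzV⟩ := hS z hz
      exact Opens.mem_sSup.2 ⟨V, ⟨i, hi⟩, (j.le hzV : f z ∈ V)⟩
    intro y hy
    obtain ⟨V, ⟨i, hi⟩, hyV⟩ := Opens.mem_sSup.1 (hle hy)
    exact ⟨V, i, hi, hyV⟩
  · intro z hz
    obtain ⟨V, i, hi, hzV⟩ := hS (f z) hz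
    exact ⟨(Opens.map f).obj V, (Opens.map f).map i, Presieve.image_mem_functorPushforward _ _ hi, hzV⟩

include h in
theorem pushforward_type : (TopCat.Sheaf.pushforward (Type u) f).IsEquivalence := by
  haveI := isDenseSubsite f h
  exact inferInstanceAs ((Opens.map f).sheafPushforwardContinuous (Type u) _ _).IsEquivalence

include h in
theorem pushforward_ab : (TopCat.Sheaf.pushforward AddCommGrpCat.{u} f).IsEquivalence := by
  haveI := isDenseSubsite f h
  exact inferInstanceAs ((Opens.map f).sheafPushforwardContinuous AddCommGrpCat.{u} _ _).IsEquivalence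

theorem tfae :
    [Function.Bijective (fun U : TopologicalSpace.Opens X => (TopologicalSpace.Opens.map f).obj U),
      (TopCat.Sheaf.pullback (Type u) f).IsEquivalence,
      (TopCat.Sheaf.pullback AddCommGrpCat.{u} f).IsEquivalence].TFAE := by
  tfae_have 1 → 2 := fun h => by
    haveI := pushforward_type f h
    exact (TopCat.Sheaf.pullbackPushforwardAdjunction (Type u) f).isEquivalence_left_of_isEquivalence_right
  tfae_have 1 → 3 := fun h => by
    haveI := pushforward_ab f h
    exact (TopCat.Sheaf.pullbackPushforwardAdjunction AddCommGrpCat.{u} f).isEquivalence_left_of_isEquivalence_right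
  tfae_have 2 → 1 := fun h => by
    haveI := h
    haveI := (TopCat.Sheaf.pullbackPushforwardAdjunction (Type u) f).isEquivalence_right_of_isEquivalence_left
    exact bijective_of_type f
  tfae_have 3 → 1 := fun h => by
    haveI := h
    haveI := (TopCat.Sheaf.pullbackPushforwardAdjunction AddCommGrpCat.{u} f).isEquivalence_right_of_isEquivalence_left
    exact bijective_of_ab f
  tfae_finish

end Groth.Agent.H06QHomeo
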